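import Cfsg.Agent.Lib.T3.Defs
import Cfsg.Agent.S3331
import Cfsg.Agent.Lib.FGS.NilpCover
import Cfsg.Agent.Lib.Core.Frobenius
import Cfsg.Agent.Lib.GL.Basic

/-!
# Central extensions by an involution of groups with a self-centralizing element of order three
-/

set_option autoImplicit false

namespace H66.T3
open Subgroup

variable {G : Type*} [Group G] {τ : G}

theorem normal_zp (z : ∀ g, g * τ = τ * g) : (zpowers τ).Normal := ⟨fun n hn g => by
  obtain ⟨k, rfl⟩ := mem_zpowers_iff.1 hn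
  rw [((show Commute g τ from z g).zpow_right k).eq, mul_inv_cancel_right]
  exact hn⟩

theorem mk_eq_iff (h2 : τ * τ = 1) {a b : G} : (a : G ⧸ zpowers τ) = b ↔ a = b ∨ a = b * τ := by
  rw [eq_comm, QuotientGroup.eq]
  refine ⟨fun h => ?_, ?_⟩
  · obtain ⟨k, hk⟩ := mem_zpowers_iff.1 h
    rw [eq_comm, inv_mul_eq_iff_eq_mul] at hk
    obtain ⟨j, rfl | rfl⟩ := Int.even_or_odd' k
    · exact .inl (by rwa [zpow_mul, zpow_two, h2, one_zpow, mul_one] at hk)
    · exact .inr (by rwa [zpow_add_one, zpow_mul, zpow_two, h2, one_zpow, one_mul] at hk)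
  · rintro (rfl | rfl) <;> simp

theorem sq_comm (z : ∀ g, g * τ = τ * g) (h2 : τ * τ = 1) {g a : G} (e : g * a = a * g ∨ g * a = a * g * τ) :
    g ^ 2 * a = a * g ^ 2 := by
  rcases e with e | e
  · exact (show Commute g a from e).pow_left 2
  · rw [sq, mul_assoc, e, ← mul_assoc, ← mul_assoc, e, mul_assoc _ g τ, z g, ← mul_assoc, mul_assoc _ τ τ, h2,
      mul_one, mul_assoc]

theorem sq_comm' (z : ∀ g, g * τ = τ * g) (h2 : τ * τ = 1) [(zpowers τ).Normal] {g a : G}
    (e : (g : G ⧸ zpowers τ) * a = a * g) : Commute (g ^ 2) a :=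
  sq_comm z h2 ((mk_eq_iff h2 (a := g * a) (b := a * g)).1 e)

theorem card_of_sc [Finite G] {x p q : G} (z : ∀ g, g * τ = τ * g) (h2 : τ * τ = 1) (h1 : τ ≠ 1)
    (x3 : x ^ 3 = 1) (x1 : x ≠ 1) (hx : ∀ g, g * x = x * g → ∃ i : ℕ, g = x ^ i ∨ g = x ^ i * τ)
    (p2 : p * p = 1) (xp : x * p * x⁻¹ = q) (xq : x * q * x⁻¹ = p * q)
    (hp : ∀ g, g * p = p * g → g * q = q * g → orderOf g ∣ 48)
    (c1 : 64 ∣ Nat.card G) (c2 : ¬ 128 ∣ Nat.card G) : Nat.card G = 192 := by
  have := normal_zp z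
  have := Fact.mk Nat.prime_three
  have := Fact.mk Nat.prime_two
  have τ3 : τ ^ 3 = τ := by rw [pow_succ, sq, h2, one_mul]
  have cY : Nat.card G = Nat.card (G ⧸ zpowers τ) * 2 := by
    rw [card_eq_card_quotient_mul_card_subgroup (zpowers τ), Nat.card_zpowers,
      orderOf_eq_prime ((sq τ).trans h2) h1]
  have y3 : (x : G ⧸ zpowers τ) ^ 3 = 1 := by rw [← QuotientGroup.mk_pow, x3]; rfl
  have y1 : (x : G ⧸ zpowers τ) ≠ 1 := fun e => by
    rcases (mk_eq_iff h2 (b := 1)).1 e with e | e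
    · exact x1 e
    · exact h1 (by rw [← τ3, ← one_mul τ, ← e, x3])
  have cX : Nat.card (zpowers (x : G ⧸ zpowers τ)) = 3 := by rw [Nat.card_zpowers, orderOf_eq_prime y3 y1]
  have sc (y : G ⧸ zpowers τ) (e : y * x = x * y) : y ∈ zpowers (x : G ⧸ zpowers τ) := by
    obtain ⟨g, rfl⟩ := QuotientGroup.mk_surjective y
    have e1 := (sq_comm' z h2 e.symm).pow_left 2
    rw [← pow_mul, pow_succ, x3, one_mul] at e1
    obtain ⟨i, e2⟩ := hx g e1.symm
    rw [(mk_eq_iff h2).2 e2, QuotientGroup.mk_pow]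
    exact npow_mem_zpowers _ i
  have hC : centralizer (zpowers (x : G ⧸ zpowers τ) : Set (G ⧸ zpowers τ)) = zpowers (x : G ⧸ zpowers τ) :=
    le_antisymm (fun y hy => sc y (hy _ (mem_zpowers _)).symm) (le_centralizer _)
  obtain ⟨N, hN, nil, cop, hq⟩ | ⟨N, hN, -, n2, ⟨e⟩⟩ | ⟨⟨e⟩⟩ := Cfsg.Agent.S3331.result _ cX hC
  · let f := (QuotientGroup.mk' N).comp (QuotientGroup.mk' (zpowers τ))
    have f2 : f p * f p = 1 := by rw [← map_mul, p2, map_one]
    have fp : f p = 1 := by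
      rcases hq with hq | ⟨⟨e⟩⟩
      · rw [← pow_card_eq_one' (x := f p), hq, pow_succ, sq, f2, one_mul]
      · refine e.injective (((by decide : ∀ a b c : Equiv.Perm (Fin 3), a * a = 1 → c * a * c⁻¹ = b →
          c * b * c⁻¹ = a * b → a = 1) _ (e (f q)) (e (f x)) ?_ ?_ ?_).trans (map_one e).symm) <;>
          simp only [← map_mul, ← map_inv, p2, xp, xq, map_one]
    have mp : (p : G ⧸ zpowers τ) ∈ N := (QuotientGroup.eq_one_iff _).1 fp
    have mq : (q : G ⧸ zpowers τ) ∈ N := xp ▸ hN.conj_mem _ mp x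
    have q2 : q * q = 1 := by rw [← xp, conj_mul, p2, mul_one, mul_inv_cancel]
    have cN := Nat.eq_prime_pow_of_unique_prime_dvd (p := 2) (Nat.card_pos (α := N)).ne' fun {r} hr hd => by
      have := Fact.mk hr
      obtain ⟨⟨n, hn⟩, ho⟩ := exists_prime_orderOf_dvd_card' r hd
      rw [← orderOf_coe] at ho
      obtain ⟨g, rfl⟩ := QuotientGroup.mk_surjective n
      by_contra r2
      have cm {a : G} (a2 : a * a = 1) (ha : (a : G ⧸ zpowers τ) ∈ N) : g ^ 2 * a = a * g ^ 2 := by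
        refine sq_comm' z h2 (H77.commute_of_isNilpotent_of_coprime nil hn ha ?_)
        rw [show orderOf (g : G ⧸ zpowers τ) = r from ho]
        refine Nat.Coprime.coprime_dvd_right (orderOf_dvd_of_pow_eq_one (n := 2) ?_)
          ((Nat.coprime_primes hr Nat.prime_two).2 r2)
        rw [← QuotientGroup.mk_pow, sq, a2]; rfl
      have d : r ∣ 2 ^ 5 * 3 := by
        rw [← ho]
        refine orderOf_dvd_of_pow_eq_one ?_
        rw [← QuotientGroup.mk_pow, show 2 ^ 5 * 3 = 2 * 48 from rfl, pow_mul,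
          orderOf_dvd_iff_pow_eq_one.1 (hp _ (cm p2 mp) (cm q2 mq))]
        rfl
      rcases (Nat.Prime.dvd_mul hr).1 d with d | d
      · exact r2 ((Nat.prime_dvd_prime_iff_eq hr Nat.prime_two).1 (hr.dvd_of_dvd_pow d))
      · exact hr.one_lt.ne' (Nat.eq_one_of_dvd_coprimes cop hd d)
    obtain ⟨j, hj⟩ : ∃ j, Nat.card G = 3 * 2 ^ j := by
      rw [cY, card_eq_card_quotient_mul_card_subgroup N, cN]
      rcases hq with hq | ⟨⟨e⟩⟩
      · exact ⟨_, by rw [hq, mul_assoc, ← pow_succ]⟩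
      · refine ⟨(Nat.card N).primeFactorsList.length + 2, ?_⟩
        rw [Nat.card_congr e.toEquiv, Nat.card_perm, Nat.card_fin, Nat.factorial]
        ring
    rw [hj] at c1 c2 ⊢
    have a : 6 ≤ j := (Nat.pow_dvd_pow_iff_le_right one_lt_two).1
      ((by norm_num : Nat.Coprime (2 ^ 6) 3).dvd_of_dvd_mul_left c1)
    obtain rfl : j = 6 := le_antisymm (by_contra fun b => c2 ((pow_dvd_pow 2 (show 7 ≤ j by omega)).mul_left 3)) a
    rfl
  · have hN2 : IsPGroup 2 N := fun g => ⟨1, Subtype.ext (n2 g g.2)⟩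
    obtain ⟨k, hk⟩ := IsPGroup.iff_card.1 hN2
    have c : Nat.card G = 15 * 2 ^ (k + 3) := by
      rw [cY, card_eq_card_quotient_mul_card_subgroup N, hk, Nat.card_congr e.toEquiv,
        nat_card_alternatingGroup, Nat.card_fin]
      norm_num [Nat.factorial]
      ring
    rw [c] at c1 c2
    have a : 6 ≤ k + 3 := (Nat.pow_dvd_pow_iff_le_right one_lt_two).1
      ((by norm_num : Nat.Coprime (2 ^ 6) 15).dvd_of_dvd_mul_left c1)
    obtain rfl : k = 3 := by
      by_contra b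
      exact c2 ((pow_dvd_pow 2 (show 7 ≤ k + 3 by omega)).mul_left 15)
    have m := H2.card_modEq_one_of_semiregular (K := N) (R := zpowers (x : G ⧸ zpowers τ))
      (by rw [normalizer_eq_top]; exact le_top) fun r hr r1 => eq_bot_iff.2 fun n hn => by
        have c3 {y} (hy : y ∈ zpowers (x : G ⧸ zpowers τ)) : y ^ 3 = 1 := by
          rw [← cX]; exact congrArg Subtype.val (pow_card_eq_one' (x := (⟨y, hy⟩ : zpowers _)))
        have o : zpowers r = zpowers (x : G ⧸ zpowers τ) := eq_of_le_of_card_ge (zpowers_le.2 hr)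
          (by rw [cX, Nat.card_zpowers, orderOf_eq_prime (c3 hr) r1])
        have := c3 (hC.le (show n ∈ _ by rw [← o, zpowers_eq_closure r, centralizer_closure]; exact hn.2))
        rwa [pow_succ, n2 n hn.1, one_mul] at this
    rw [hk, cX] at m
    exact absurd m (by decide)
  · have := Fact.mk (by norm_num : Nat.Prime 7)
    have h := H10.card_PSL_two (F := ZMod 7)
    rw [Nat.card_zmod, show Nat.gcd 2 (7 - 1) = 2 by norm_num, ← Nat.card_congr e.toEquiv] at h
    omega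

end H66.T3
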