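import Cfsg.Agent.Lib.T3.End1
import Cfsg.Agent.Lib.T3.End3
import Cfsg.Agent.Lib.LocStruct.SylowIn
import Cfsg.Agent.Lib.Inv73.Transfer

/-!
# A group with centre of even order around `2⁴ : S₄`
-/

set_option autoImplicit false

namespace H66.T3
open Subgroup H69 Mo

variable {G : Type*} [Group G] [Finite G] {φ : Mo →* G}

/-- the local data, read in the centraliser of `t` -/
structure Co (φ : Mo →* G) : Prop where
  inj : Function.Injective φ
  z : ∀ g, g * φ t0 = φ t0 * g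
  h6 : ∀ y : G, orderOf y = 3 → ∀ g, g * y = y * g → g ^ 6 = 1
  hN : ∀ g ∈ 𝐍(R.map φ), g ∈ φ.range
  hx : ∀ g, g * φ x0 = φ x0 * g → g ∈ φ.range
  hp : ∀ g, g * φ p0 = φ p0 * g → g * φ q0 = φ q0 * g → orderOf g ∣ 48

namespace Co
variable (h : Co φ)
include h

omit [Finite G] in
theorem mem {K : Subgroup Mo} {a : Mo} : φ a ∈ K.map φ ↔ a ∈ K := mem_map_iff_mem h.inj

omit [Finite G] in
theorem card (K : Subgroup Mo) : Nat.card (K.map φ) = Nat.card K := card_map_of_injective h.inj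

omit [Finite G] h in
theorem t2 : φ t0 * φ t0 = 1 := by rw [← map_mul, (by decide : t0 * t0 = 1), map_one]

omit [Finite G] in
theorem e16 {K : Subgroup G} (hS : K ≤ S.map φ) (h2 : ∀ a ∈ K, a * a = 1) (hc : Nat.card K = 16) :
    K = R.map φ ∨ K = E.map φ := by
  obtain ⟨K, rfl⟩ : ∃ L : Subgroup Mo, K = L.map φ :=
    ⟨_, (map_comap_eq_self (hS.trans (map_le_range φ S))).symm⟩
  exact (Mo.e16 (fun a ha => h.mem.1 (hS (h.mem.2 ha)))
    (fun a ha => h.inj (by rw [map_mul, map_one, h2 _ (h.mem.2 ha)])) (h.card K ▸ hc)).imp (congrArg _) (congrArg _)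

omit [Finite G] in
theorem e16R {g : G} (e : R.map φ ^ᶜ g ≤ S.map φ) : R.map φ ^ᶜ g = R.map φ ∨ R.map φ ^ᶜ g = E.map φ :=
  h.e16 e (by rintro _ ⟨_, ⟨a, ha, rfl⟩, rfl⟩; rw [← map_mul, ← map_mul, R_sq a ha, map_one, map_one])
    (by rw [card_cj, h.card, card_R])

omit [Finite G] in
theorem e16E {g : G} (e : E.map φ ^ᶜ g ≤ S.map φ) : E.map φ ^ᶜ g = R.map φ ∨ E.map φ ^ᶜ g = E.map φ :=
  h.e16 e (by rintro _ ⟨_, ⟨a, ha, rfl⟩, rfl⟩; rw [← map_mul, ← map_mul, E_sq a ha, map_one, map_one])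
    (by rw [card_cj, h.card, card_E])

theorem no3 {y : G} {a₁ a₂ b₁ b₂ b₃ : Mo} (sw : Sw a₁ a₂ b₁ b₂ b₃) (e0 : y * φ a₁ * y⁻¹ = φ a₂)
    (e1 : y * φ b₁ * y⁻¹ = φ b₂) (e2 : y * φ b₂ * y⁻¹ = φ b₃) (e3 : y * φ b₃ * y⁻¹ = φ b₁) : False := by
  have := normal_zp h.z
  let π := QuotientGroup.mk' (zpowers (φ t0))
  have tq {a b : Mo} : π (φ a) = π (φ b) ↔ Tq a b := by
    refine (mk_eq_iff t2).trans ?_
    rw [← map_mul, h.inj.eq_iff, h.inj.eq_iff, Tq]
  have k {a b c : Mo} (e : y * φ a * y⁻¹ = φ b) (e' : Tq (x0 * c * x0⁻¹) b) :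
      π ((φ x0)⁻¹ * y) * π (φ a) = π (φ c) * π ((φ x0)⁻¹ * y) := by
    have := tq.2 e'
    rw [← e] at this
    simp only [map_mul, map_inv] at this ⊢
    rw [mul_inv_eq_iff_eq_mul, ← eq_inv_mul_iff_mul_eq] at this
    rw [this]
    group
  obtain ⟨s0, s1, s2, s3, s4, s5⟩ := sw
  have k0 := sq_comm' h.z t2 (k e0 s1)
  have k1 := k e1 s3
  have k2 := k e2 s4
  have k3 := k e3 s2
  generalize (φ x0)⁻¹ * y = g at k0 k1 k2 k3
  by_cases d : 3 ∣ orderOf g
  · have d2 : 3 ∣ orderOf (g ^ 2) :=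
      (by norm_num : Nat.Coprime 3 2).dvd_of_dvd_mul_left (d.trans (orderOf_dvd_of_pow_eq_one
        (by rw [pow_mul, pow_orderOf_eq_one])))
    have := h.h6 _ (orderOf_pow_orderOf_div (orderOf_pos _).ne' d2) _ (k0.pow_left _).symm
    rw [← map_pow, show 6 = 2 * 3 from rfl, pow_mul, sq, s0, ← map_one φ, h.inj.eq_iff] at this
    exact absurd this (by decide)
  · obtain ⟨j, hj⟩ := exists_pow_eq_self_of_coprime ((Nat.Prime.coprime_iff_not_dvd Nat.prime_three).2 d)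
    have c : Commute (π g ^ 3) (π (φ b₁)) := by
      rw [Commute, SemiconjBy, pow_three, mul_assoc, mul_assoc, k1, ← mul_assoc _ (π (φ b₃)), k3, mul_assoc,
        ← mul_assoc _ (π (φ b₂)), k2, mul_assoc]
    have c' := (c.pow_left j).eq
    rw [← map_pow, ← map_pow, hj, k1, mul_left_inj] at c'
    exact s5 (tq.1 c')

theorem noswap {g : G} (hg : g ∈ 𝐍(S.map φ)) : R.map φ ^ᶜ g ≠ E.map φ := fun e1 => by
  have e2 : E.map φ ^ᶜ g = R.map φ :=
    (h.e16E (cj_le_of_mem_normalizer (map_mono E_le) hg)).resolve_right fun e =>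
      v_cj 1 (h.mem.1 (cj_inj.1 (e1.trans e.symm) ▸ h.mem.2 (by decide)))
  let c : Mo →* G := (MulAut.conj g).toMonoidHom.comp φ
  have ci : Function.Injective c := (MulAut.conj g).injective.comp h.inj
  have ct : φ t0 = c t0 := eq_mul_inv_of_mul_eq (h.z g).symm
  have ex (b : Mo) (hb : b ∈ S) : ∃ a ∈ S, φ a = c b ∧ (a ∈ E ↔ b ∈ R) ∧ (a ∈ R ↔ b ∈ E) := by
    obtain ⟨a, ha, e⟩ := conj_mem_of_mem_normalizer hg (h.mem.2 hb)
    exact ⟨a, ha, e, by rw [← h.mem, e, ← e1, cj_mem_iff, h.mem], by rw [← h.mem, e, ← e2, cj_mem_iff, h.mem]⟩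
  obtain ⟨P, -, eP, P1, P2⟩ := ex p0 (by decide)
  obtain ⟨Q, -, eQ, Q1, Q2⟩ := ex q0 (by decide)
  obtain ⟨U, -, eU, U1, U2⟩ := ex u0 (by decide)
  obtain ⟨W, hW, eW, W1, W2⟩ := ex w0 (by decide)
  have eq {a b a' b' : Mo} (ea : φ a = c a') (eb : φ b = c b') : a = b ↔ a' = b' := by
    rw [← h.inj.eq_iff, ea, eb, ci.eq_iff]
  have m {a b a' b' : Mo} (ea : φ a = c a') (eb : φ b = c b') : φ (a * b) = c (a' * b') := by
    rw [map_mul, map_mul, ea, eb]
  have o : φ 1 = c 1 := (map_one φ).trans (map_one c).symm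
  have y {a b a' b' : Mo} (ea : φ a = c a') (eb : φ b = c b') (e : x0 * a' * x0⁻¹ = b') :
      c x0 * φ a * (c x0)⁻¹ = φ b := by rw [ea, eb, ← e, map_mul c, map_mul c, map_inv]
  have A1 := m eP eW
  have A2 := m eQ (m eU eW)
  have A3 := m (m eP eQ) eU
  have B1 := m eP (m eU eW)
  have B2 := m eQ eU
  have B3 := m (m eP eQ) eW
  rcases swap P (P2.2 (by decide)) (P1.2 (by decide)) (mt (eq eP o).1 (by decide)) (mt (eq eP ct).1 (by decide))
    Q (Q1.2 (by decide)) (mt Q2.1 (by decide)) U (U2.2 (by decide)) (mt U1.1 (by decide))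
    ((eq (m (m eU eQ) eU) (m eQ ct)).2 (by decide)) W hW ((eq (m eW eW) o).2 (by decide)) (mt W2.1 (by decide))
    (mt W1.1 (by decide)) ((eq (m (m eW eP) eW) (m eP ct)).2 (by decide)) ((eq (m eW eQ) (m eQ eW)).2 (by decide))
    ((eq (m eU eW) (m eW eU)).2 (by decide)) with s | s
  · exact h.no3 s (y A1 A2 (by decide)) (y B1 B2 (by decide)) (y B2 B3 (by decide)) (y B3 B1 (by decide))
  · exact h.no3 s (y B1 B2 (by decide)) (y A1 A2 (by decide)) (y A2 A3 (by decide)) (y A3 A1 (by decide))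

omit [Finite G] in
theorem pS : IsPGroup 2 (S.map φ) := IsPGroup.of_card (n := 7) ((h.card S).trans card_S)

theorem syl : IsSylowIn 2 (S.map φ) ⊤ := by
  refine isSylowIn_of_normalizer le_top ?_
  have : ⊤ ⊓ 𝐍(S.map φ) = S.map φ := le_antisymm (fun g hg => ?_) (le_inf le_top le_normalizer)
  · rw [this]; exact isSylowIn_self h.pS
  obtain ⟨a, rfl⟩ := h.hN g (cj_eq_self_iff.1 ((h.e16R (cj_le_of_mem_normalizer (map_mono R_le) hg.2)).resolve_right
    (h.noswap hg.2)))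
  have := conj_mem_of_mem_normalizer hg.2 (h.mem.2 (by decide : s0 ∈ S))
  rw [← map_inv, ← map_mul, ← map_mul, h.mem] at this
  exact h.mem.2 (S_cj a this)

theorem nc (g : G) : R.map φ ^ᶜ g ≠ E.map φ := fun e => by
  have n {K : Subgroup Mo} (hK : ∀ b ∈ K, ∀ a ∈ S, a * b * a⁻¹ ∈ K) : S.map φ ≤ 𝐍(K.map φ) :=
    le_normalizer_of_cj_le (by
      rintro _ ⟨a, ha, rfl⟩ _ ⟨_, ⟨b, hb, rfl⟩, rfl⟩
      exact ⟨_, hK b hb a ha, by simp⟩)
  obtain ⟨c, hc, le⟩ := (h.syl.mono (n E_cj) le_top).exists_cj_le (isPGroup_cj h.pS g)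
    (by rw [← e, ← cj_normalizer]; exact cj_mono g (n fun b hb a _ => R_cj b hb a))
  rw [cj_cj] at le
  exact h.noswap (mem_normalizer_of_cj_le le) (by rw [← cj_cj, e, cj_eq_of_mem_normalizer hc])

theorem vE (k : G) : k * φ v0 * k⁻¹ ∉ E.map φ := fun hk => by
  have cm {K : Subgroup G} (h2 : ∀ a ∈ K, a * a = 1) {a : G} (ha : a ∈ K) : K ≤ centralizer {a} := fun b hb =>
    mem_centralizer_singleton_iff.2 (by
      rw [← inv_inj, mul_inv_rev, inv_eq_of_mul_eq_one_left (h2 a ha), inv_eq_of_mul_eq_one_left (h2 b hb),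
        inv_eq_of_mul_eq_one_left (h2 _ (K.mul_mem ha hb))])
  obtain ⟨T, hT, le⟩ := exists_isSylowIn_le (h.pS.to_le (map_mono E_le))
    (cm (by rintro _ ⟨a, ha, rfl⟩; rw [← map_mul, E_sq a ha, map_one]) hk)
  obtain ⟨c, hc, le'⟩ := hT.exists_cj_le (isPGroup_cj (h.pS.to_le (map_mono R_le)) k)
    (cm (by rintro _ ⟨_, ⟨a, ha, rfl⟩, rfl⟩; rw [← map_mul, ← map_mul, R_sq a ha, map_one, map_one])
      (cj_mem k (h.mem.2 (by decide))))
  obtain ⟨l, -, lS⟩ := h.syl.exists_cj_le hT.isP le_top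
  have e1 := (h.e16E ((cj_mono l le).trans lS)).resolve_left fun e => h.nc l⁻¹ (cj_eq_iff.1 e).symm
  have e2 := (cj_mono l le').trans lS
  rw [cj_cj, cj_cj] at e2
  obtain ⟨a, ha⟩ := h.hN _ (cj_eq_self_iff.1 ((h.e16R e2).resolve_right (h.nc _)))
  have m := e1.le (cj_mem l hk)
  rw [← mul_inv_cancel_right (k * φ v0 * k⁻¹) c, ← mem_centralizer_singleton_iff.1 hc] at m
  refine v_cj a (h.mem.1 ?_)
  rw [map_mul, map_mul, map_inv, ha]
  simpa only [mul_assoc, mul_inv_rev] using m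

theorem vM (k : G) : k * φ v0 * k⁻¹ ∉ M.map φ := fun ⟨a, ha, e⟩ => by
  obtain ⟨c, hc⟩ := M_cj a ha (h.inj (by
    rw [map_mul, e, conj_mul, ← map_mul, (by decide : v0 * v0 = 1), map_one, mul_one, mul_inv_cancel]))
  refine h.vE (φ c * k) ?_
  have := h.mem.2 hc
  rw [map_mul, map_mul, map_inv, e] at this
  simpa only [mul_assoc, mul_inv_rev] using this

theorem top : φ.range = ⊤ := by
  have cS : Nat.card G = 128 * (S.map φ).index := by rw [← card_mul_index (S.map φ), h.card, card_S]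
  have od : ¬ 2 ∣ (S.map φ).index := relIndex_top_right (S.map φ) ▸ h.syl.not_dvd_relIndex
  have v2 : φ v0 * φ v0 = 1 := by rw [← map_mul, (by decide : v0 * v0 = 1), map_one]
  have ne {a : Mo} (ha : a ≠ 1) : φ a ≠ 1 := by rwa [Ne, map_eq_one_iff φ h.inj]
  obtain ⟨N, hN, i2, hv⟩ := H73.thompson_transfer (S.map φ) (M.map φ) (Nat.odd_iff.2 (by omega)) (by
      have := H1.card_mul_relIndex_of_le (map_mono (f := φ) M_le)
      rw [h.card, h.card, card_M, card_S] at this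
      omega) (φ v0) (orderOf_eq_prime ((sq _).trans v2) (ne (by decide))) h.vM
  have sq (a : Mo) : φ (a * a) ∈ N := map_mul φ a a ▸ mul_self_mem_of_index_two i2 _
  have mt : φ t0 ∈ N := sq ⟨8, 1⟩
  have mx : φ x0 ∈ N := sq ⟨0, 16⟩
  have mp : φ p0 ∈ N := sq ⟨10, 1⟩
  have mq : φ q0 ∈ N := sq ⟨6, 2⟩
  have cN := card_mul_index N
  rw [i2] at cN
  have c := card_of_sc (τ := (⟨_, mt⟩ : N)) (x := ⟨_, mx⟩) (p := ⟨_, mp⟩) (q := ⟨_, mq⟩)
    (fun g => Subtype.ext (h.z g)) (Subtype.ext t2) (fun e => ne (by decide) (congrArg Subtype.val e))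
    (Subtype.ext ((map_pow φ x0 3).symm.trans (map_one φ))) (fun e => ne (by decide) (congrArg Subtype.val e))
    (fun g e => ?_) (Subtype.ext ((map_mul φ p0 p0).symm.trans (map_one φ))) (Subtype.ext ?_) (Subtype.ext ?_)
    (fun g e e' => orderOf_coe g ▸ h.hp g (congrArg Subtype.val e) (congrArg Subtype.val e')) (by omega) (by omega)
  · exact eq_top_of_card_eq _ (by rw [← cN, c, ← Nat.card_congr (MonoidHom.ofInjective h.inj).toEquiv, Mo.card])
  · obtain ⟨g, hg⟩ := g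
    have e' : g * φ x0 = φ x0 * g := congrArg Subtype.val e
    obtain ⟨a, rfl⟩ := h.hx g e'
    rw [← map_mul, ← map_mul, h.inj.eq_iff] at e'
    obtain ⟨i, -, hi⟩ := (by decide +kernel : ∀ a, a * x0 = x0 * a → ∃ i < 3, (a = x0 ^ i ∨ a = x0 ^ i * t0) ∨
      v0 = x0 ^ i * a ∨ v0 = x0 ^ i * t0 * a) a e'
    refine ⟨i, (hi.resolve_right fun hi => hv ?_).imp (fun e => Subtype.ext ?_) fun e => Subtype.ext ?_⟩
    · rcases hi with hi | hi <;> rw [hi] <;> simp only [map_mul, map_pow]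
      · exact mul_mem (pow_mem mx i) hg
      · exact mul_mem (mul_mem (pow_mem mx i) mt) hg
    · exact (congrArg φ e).trans (map_pow φ x0 i)
    · exact (congrArg φ e).trans (by rw [map_mul, map_pow]; rfl)
  · exact (by rw [← map_inv, ← map_mul, ← map_mul]; rfl : φ x0 * φ p0 * (φ x0)⁻¹ = φ q0)
  · exact (by rw [← map_inv, ← map_mul, ← map_mul, ← map_mul]; rfl : φ x0 * φ q0 * (φ x0)⁻¹ = φ p0 * φ q0)

end Co

end H66.T3
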