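import Cfsg.Agent.Lib.T3.End2
import Cfsg.Agent.Lib.T3.End4

/-!
# The involution centraliser `2⁴ : S₄` of `M₂₂`
-/

set_option autoImplicit false

namespace H66.T3
open Subgroup
variable {G : Type*} [Group G] [Finite G] {t v p q u w x s : G}

set_option linter.unusedSectionVars false in
theorem PC.iso (h : PC t v p q u w x s) (hc : Nat.card (closure ({t, v, p, q, u, w, x, s} : Set G)) = 384) :
    ∃ m : Cfsg.Spor.M22, orderOf m = 2 ∧
      Nonempty (closure ({t, v, p, q, u, w, x, s} : Set G) ≃* centralizer ({m} : Set Cfsg.Spor.M22)) := by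
  obtain ⟨φ, rfl, rfl, rfl, rfl, rfl, rfl, rfl, rfl⟩ := h.exists_hom
  obtain ⟨m, hm, ⟨e⟩⟩ := model22
  rw [← range_eq] at hc ⊢
  exact ⟨m, hm, ⟨(MonoidHom.ofInjective (inj_of_card φ hc)).symm.trans e⟩⟩

omit [Finite G] in
theorem pow_six (h3 : T3 G) {y g : G} (hy : orderOf y = 3) (e : g * y = y * g) : g ^ 6 = 1 := by
  have k {K : Type} [Group K] (f : centralizer ({y} : Set G) ≃* K) (hK : ∀ a : K, a ^ 6 = 1) : g ^ 6 = 1 :=
    congrArg Subtype.val (f.injective ((map_pow f ⟨g, mem_centralizer_singleton_iff.2 e⟩ 6).trans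
      ((hK _).trans (map_one f).symm)))
  obtain ⟨⟨f⟩⟩ | ⟨⟨f⟩⟩ := h3 y hy
  · exact k f (by decide +kernel)
  · exact k f (by decide +kernel)

set_option linter.unusedVariables false in
theorem PC.cent (h3 : T3 G) (h : PC t v p q u w x s)
    (hc : Nat.card (closure ({t, v, p, q, u, w, x, s} : Set G)) = 384)
    (hN : ∀ g ∈ normalizer (closure ({t, v, p, q} : Set G) : Set G), g * t = t * g →
      g ∈ closure ({t, v, p, q, u, w, x, s} : Set G))
    (tr : ∀ r ∈ closure ({t, v, p, q} : Set G), r ≠ 1 →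
      ∃ n ∈ normalizer (closure ({t, v, p, q} : Set G) : Set G), n * t * n⁻¹ = r)
    (hx : ∀ g, g * x = x * g → g * t = t * g → g ∈ closure ({x, t, v} : Set G))
    (hp : Nat.card (centralizer ({p, q} : Set G)) = 48) :
    centralizer ({t} : Set G) = closure ({t, v, p, q, u, w, x, s} : Set G) := by
  obtain ⟨φ, rfl, rfl, rfl, rfl, rfl, rfl, rfl, rfl⟩ := h.exists_hom
  rw [← range_eq] at hc hN ⊢
  rw [← map_R] at hN
  have le (a : Mo) : φ a ∈ centralizer {φ Mo.t0} := mem_centralizer_singleton_iff.2 (by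
    rw [← map_mul, ← map_mul, (by decide +kernel : ∀ a, a * Mo.t0 = Mo.t0 * a)])
  have rg {g : centralizer {φ Mo.t0}} : g ∈ (φ.codRestrict _ le).range ↔ (g : G) ∈ φ.range :=
    exists_congr fun _ => Subtype.ext_iff
  have c : Co (φ.codRestrict _ le) := by
    refine ⟨fun a b e => inj_of_card φ hc (congrArg Subtype.val e),
      fun g => Subtype.ext (mem_centralizer_singleton_iff.1 g.2),
      fun y hy g e => Subtype.ext (pow_six h3 ((orderOf_coe y).trans hy) (congrArg Subtype.val e)),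
      fun g hg => rg.2 (hN g (H69.cj_eq_self_iff.1 ?_) (mem_centralizer_singleton_iff.1 g.2)),
      fun g e => rg.2 ((closure_le _).2 ?_ (hx g (congrArg Subtype.val e) (mem_centralizer_singleton_iff.1 g.2))),
      fun g e e' => ?_⟩
    · have := H69.map_subtype_cj (Mo.R.map (φ.codRestrict _ le)) g
      rw [H69.cj_eq_of_mem_normalizer hg, map_map] at this
      exact this.symm
    · rintro _ (rfl | rfl | rfl) <;> exact ⟨_, rfl⟩
    · rw [← hp, ← orderOf_coe]
      refine H1.orderOf_dvd_card_of_mem ?_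
      rintro _ (rfl | rfl)
      exacts [(congrArg Subtype.val e).symm, (congrArg Subtype.val e').symm]
  exact le_antisymm (fun g hg => rg.1 (c.top.ge (mem_top (⟨g, hg⟩ : centralizer _)))) fun _ ⟨a, e⟩ => e ▸ le a

end H66.T3
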