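import Cfsg.Agent.Lib.T3.Defs

/-!
# A computable model of `2⁴ : S₄` and the homomorphism onto every group with the relations `PC`
-/

set_option autoImplicit false

namespace H66.T3
open Subgroup

/-- the normal form `t^a v^b p^c q^d · u^e w^f s^g x^j`, `r = a + 2b + 4c + 8d`, `k = e + 2f + 4g + 8j` -/
structure Mo where
  r : Fin 16
  k : Fin 24
deriving DecidableEq

namespace Mo

def xr (a b : Fin 16) : Fin 16 := ⟨Nat.mod (Nat.xor a.1 b.1) 16, Nat.mod_lt _ (by decide)⟩

def tab (a b : Fin 24) : Fin 24 := ⟨Nat.mod (Nat.land (Nat.shiftRight 0x823639af84a33218a74292ba5ab708c026bd8e8ce1229c864ad0aade9610061731ed94271310e552169b52f5184407b5cc9c650394c45a548bd6d4298874a90bada97088036b98f8ca1321ca642d2aa5eb600c2263dae84e32390c55a149bd2d5180417b1cd9c251314e452568b56f410460735ec946705250b3148710403b5697946137358f5a12a390a618022bd2b69c2327b1ae42d4921cc500c41a5ed584e5163dcd4a968298e408860adaf48ca706b9ec731af10023310a794233b52b75212b7b58e18402394869c612bd6965a50a639ed00861218e584a71a5af5429696bdcc08c4029cc48ce50aded44ad488c253ad2d74a14b6b1cf08043290c784672a56f64256a635ee00462214e69ca11bda955a9097b98d188013988594e30b5eb452d2873dac10c2031ca4a56d784653635cf4254b214c700443ad2f68c2726b1ee4a16a290e608062b5e9594e1173d8d52d0931c8510c01bdab49ca307b9ac5a928398a418820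
  (Nat.mul 5 (Nat.add (Nat.mul 24 a.1) b.1))) 31) 24, Nat.mod_lt _ (by decide)⟩

def act (a : Fin 24) (r : Fin 16) : Fin 16 := ⟨Nat.mod (Nat.shiftRight 0x32dcab456789fe1067cdef453298ba10abcd3254ef897610efdc6754ab9823107689ba4523dcef102398fe4576cdab10fe892354bacd6710ba987654fedc3210ab45678932dcfe10ef45329867cdba103254ef89abcd76106754ab98efdc2310ba4523dc7689ef10fe4576cd2398ab102354bacdfe8967107654fedcba983210678932dcab45fe10329867cdef45ba10ef89abcd32547610ab98efdc6754231023dc7689ba45ef1076cd2398fe45ab10bacdfe8923546710fedcba9876543210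
  (Nat.mul 4 (Nat.add (Nat.mul 16 a.1) r.1))) 16, Nat.mod_lt _ (by decide)⟩

def ivk (a : Fin 24) : Fin 24 := ⟨Nat.mod (Nat.land (Nat.shiftRight 0xbd6d44ad486b9ec9467031ca418820 (Nat.mul 5 a.1)) 31) 24,
  Nat.mod_lt _ (by decide)⟩

instance instMulMo : Mul Mo := ⟨fun a b => ⟨xr a.r (act a.k b.r), tab a.k b.k⟩⟩
instance instOneMo : One Mo := ⟨⟨0, 0⟩⟩
instance instInvMo : Inv Mo := ⟨fun a => ⟨act (ivk a.k) a.r, ivk a.k⟩⟩

theorem mul_def (a b : Mo) : a * b = ⟨xr a.r (act a.k b.r), tab a.k b.k⟩ := rfl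

instance decAll (P : Mo → Prop) [DecidablePred P] : Decidable (∀ a, P a) :=
  decidable_of_iff (∀ k r, P ⟨r, k⟩) ⟨fun h a => h a.k a.r, fun h _ _ => h _⟩

instance decEx (P : Mo → Prop) [DecidablePred P] : Decidable (∃ a, P a) :=
  decidable_of_iff (∃ k r, P ⟨r, k⟩) ⟨fun ⟨_, _, h⟩ => ⟨_, h⟩, fun ⟨a, h⟩ => ⟨a.k, a.r, h⟩⟩

theorem xr_assoc : ∀ a b c, xr (xr a b) c = xr a (xr b c) := by decide +kernel
theorem act_xr : ∀ k a b, act k (xr a b) = xr (act k a) (act k b) := by decide +kernel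
theorem act_tab : ∀ k l a, act (tab k l) a = act k (act l a) := by decide +kernel
theorem tab_assoc : ∀ a b c, tab (tab a b) c = tab a (tab b c) := by decide +kernel

instance instGroupMo : Group Mo := Group.ofLeftAxioms
  (fun a b c => by simp only [mul_def, xr_assoc, act_xr, act_tab, tab_assoc])
  (by decide +kernel) (by decide +kernel)

def eqv : Fin 16 × Fin 24 ≃ Mo := ⟨fun a => ⟨a.1, a.2⟩, fun a => (a.r, a.k), fun _ => rfl, fun _ => rfl⟩

instance instFintypeMo : Fintype Mo := Fintype.ofEquiv _ eqv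

theorem card : Nat.card Mo = 384 := by rw [← Nat.card_congr eqv]; simp

end Mo

/-- induction along a normal form -/
theorem ind_nf {n : ℕ} [NeZero n] (m : Fin n → Fin n → Fin n) (C : List (Fin n)) {P : Fin n → Prop} (h0 : P 0)
    (hC : ∀ c ∈ C, ∀ a, P a → P (m c a)) (hd : ∀ a, a = 0 ∨ ∃ c ∈ C, ∃ b, b < a ∧ m c b = a) (a : Fin n) : P a := by
  induction a using WellFoundedLT.induction with
  | ind a ih =>
    obtain rfl | ⟨c, hc, b, hb, rfl⟩ := hd a
    · exact h0
    · exact hC c hc b (ih b hb)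

variable {G : Type*} [Group G] {t v p q u w x s : G}

/-- `g ^ b * y` for a bit `b` of `n` -/
def bt (n i : ℕ) (g y : G) : G := if n.testBit i then g * y else y

def rho (t v p q : G) (r : Fin 16) (y : G) : G := bt r 0 t (bt r 1 v (bt r 2 p (bt r 3 q y)))

def kap (u w s x : G) (k : Fin 24) (y : G) : G :=
  bt k 0 u (bt k 1 w (bt k 2 s (bt k 3 x (bt k 4 x (bt k 4 x y)))))

theorem bt_mul (n i : ℕ) (g y z : G) : bt n i g y * z = bt n i g (y * z) := by
  unfold bt; split_ifs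
  · exact mul_assoc _ _ _
  · rfl

theorem rho_mul (r : Fin 16) (y z : G) : rho t v p q r y * z = rho t v p q r (y * z) := by
  simp only [rho, bt_mul]

theorem kap_mul (k : Fin 24) (y z : G) : kap u w s x k y * z = kap u w s x k (y * z) := by
  simp only [kap, bt_mul]

/-- the collection rules -/
structure Col (t v p q u w x s : G) : Prop where
  tt : ∀ y, t * (t * y) = y
  vv : ∀ y, v * (v * y) = y
  pp : ∀ y, p * (p * y) = y
  qq : ∀ y, q * (q * y) = y
  uu : ∀ y, u * (u * y) = y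
  ww : ∀ y, w * (w * y) = y
  ss : ∀ y, s * (s * y) = y
  xx : ∀ y, x * (x * (x * y)) = y
  vt : ∀ y, v * (t * y) = t * (v * y)
  pt : ∀ y, p * (t * y) = t * (p * y)
  qt : ∀ y, q * (t * y) = t * (q * y)
  pv : ∀ y, p * (v * y) = v * (p * y)
  qv : ∀ y, q * (v * y) = v * (q * y)
  qp : ∀ y, q * (p * y) = p * (q * y)
  wu : ∀ y, w * (u * y) = u * (w * y)
  su : ∀ y, s * (u * y) = u * (s * y)
  sw : ∀ y, s * (w * y) = u * (w * (s * y))
  xu : ∀ y, x * (u * y) = w * (x * y)
  xw : ∀ y, x * (w * y) = u * (w * (x * y))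
  xs : ∀ y, x * (s * y) = s * (x * (x * y))
  ut : ∀ y, u * (t * y) = t * (u * y)
  uv : ∀ y, u * (v * y) = t * (v * (p * (u * y)))
  up : ∀ y, u * (p * y) = p * (u * y)
  uq : ∀ y, u * (q * y) = t * (q * (u * y))
  wt : ∀ y, w * (t * y) = t * (w * y)
  wv : ∀ y, w * (v * y) = t * (v * (q * (w * y)))
  wp : ∀ y, w * (p * y) = t * (p * (w * y))
  wq : ∀ y, w * (q * y) = q * (w * y)
  st : ∀ y, s * (t * y) = t * (s * y)
  sv : ∀ y, s * (v * y) = t * (v * (s * y))
  sp : ∀ y, s * (p * y) = p * (s * y)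
  sq : ∀ y, s * (q * y) = p * (q * (s * y))
  xt : ∀ y, x * (t * y) = t * (x * y)
  xv : ∀ y, x * (v * y) = v * (x * y)
  xp : ∀ y, x * (p * y) = q * (x * y)
  xq : ∀ y, x * (q * y) = p * (q * (x * y))

theorem PC.col (h : PC t v p q u w x s) : Col t v p q u w x s := by
  have c1 {a : G} (e : a * a = 1) (y : G) : a * (a * y) = y := by rw [← mul_assoc, e, one_mul]
  have c2 {a b : G} (e : a * b = b * a) (y : G) : a * (b * y) = b * (a * y) := by rw [← mul_assoc, e, mul_assoc]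
  have c3 {a b c : G} (e : a * b * a⁻¹ = c) (y : G) : a * (b * y) = c * (a * y) := by rw [← e]; group
  have c4 {a b c : G} (a2 : a * a = 1) (e : a * b * a = c) (y : G) : a * (b * y) = c * (a * y) := by
    rw [← e, mul_assoc (a * b), c1 a2, mul_assoc]
  have tt := c1 h.t2; have vv := c1 h.v2; have pp := c1 h.p2; have uu := c1 h.u2; have ss := c1 h.s2
  have xx (y : G) : x * (x * (x * y)) = y := by rw [← mul_assoc, ← mul_assoc, h.x3, one_mul]
  have xp := c3 h.xp; have xu := c3 h.xu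
  have xq (y : G) : x * (q * y) = p * (q * (x * y)) := by rw [c3 h.xq, mul_assoc]
  have xw (y : G) : x * (w * y) = u * (w * (x * y)) := by rw [c3 h.xw, mul_assoc]
  have xt := c2 h.tx.symm; have xv := c2 h.xv
  have vt := c2 h.tv.symm; have pt := c2 h.tp.symm; have pv := c2 h.vp.symm
  have ut := c2 h.tu.symm; have up := c2 h.up; have st := c2 h.ts.symm; have sp := c2 h.sp; have su := c2 h.su
  have k {a b : G} (e : ∀ y, a * (x * y) = b * (x * y)) (y : G) : a * y = b * y := by simpa using e (x⁻¹ * y)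
  have qq (y : G) : q * (q * y) = y := by
    have := k (a := q * q) (b := 1) (fun y => by rw [mul_assoc, ← xp, ← xp, pp, one_mul]) y
    rwa [mul_assoc, one_mul] at this
  have ww (y : G) : w * (w * y) = y := by
    have := k (a := w * w) (b := 1) (fun y => by rw [mul_assoc, ← xu, ← xu, uu, one_mul]) y
    rwa [mul_assoc, one_mul] at this
  have qt (y : G) : q * (t * y) = t * (q * y) := by
    have := k (a := q * t) (b := t * q) (fun y => by rw [mul_assoc, mul_assoc, ← xt, ← xp, pt, xt, xp]) y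
    rwa [mul_assoc, mul_assoc] at this
  have qv (y : G) : q * (v * y) = v * (q * y) := by
    have := k (a := q * v) (b := v * q) (fun y => by rw [mul_assoc, mul_assoc, ← xv, ← xp, pv, xv, xp]) y
    rwa [mul_assoc, mul_assoc] at this
  have wt (y : G) : w * (t * y) = t * (w * y) := by
    have := k (a := w * t) (b := t * w) (fun y => by rw [mul_assoc, mul_assoc, ← xt, ← xu, ut, xt, xu]) y
    rwa [mul_assoc, mul_assoc] at this
  have qp (y : G) : q * (p * y) = p * (q * y) := by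
    have := k (a := p * q * (p * q)) (b := 1)
      (fun y => by simp only [mul_assoc]; rw [← xq, ← xq, qq, one_mul]) (q * y)
    simp only [mul_assoc, qq, one_mul] at this
    rw [← this, pp]
  have wu (y : G) : w * (u * y) = u * (w * y) := by
    have := k (a := u * w * (u * w)) (b := 1)
      (fun y => by simp only [mul_assoc]; rw [← xw, ← xw, ww, one_mul]) (w * y)
    simp only [mul_assoc, ww, one_mul] at this
    rw [← this, uu]
  have xs (y : G) : x * (s * y) = s * (x * (x * y)) := by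
    have e : x⁻¹ = x * x := inv_eq_of_mul_eq_one_left h.x3
    rw [← mul_assoc x x, ← e, ← h.sx]
    simp only [mul_assoc, ss]
  have sx (y : G) : s * (x * y) = x * (x * (s * y)) := by rw [xs, xs, xx]
  have uq (y : G) : u * (q * y) = t * (q * (u * y)) := by rw [c4 h.u2 h.uq, mul_assoc, qt]
  have uv (y : G) : u * (v * y) = t * (v * (p * (u * y))) := by
    rw [c4 h.u2 h.uv, mul_assoc, mul_assoc, pt, vt]
  have sv (y : G) : s * (v * y) = t * (v * (s * y)) := by rw [c4 h.s2 h.sv, mul_assoc]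
  have sq (y : G) : s * (q * y) = p * (q * (s * y)) := by
    have := k (a := s * q) (b := p * q * s) (fun y => by
      simp only [mul_assoc]; rw [← xp, sx, sp, xp, xq, sx]) y
    simpa only [mul_assoc] using this
  have sw (y : G) : s * (w * y) = u * (w * (s * y)) := by
    have := k (a := s * w) (b := u * w * s) (fun y => by
      simp only [mul_assoc]; rw [← xu, sx, su, xu, xw, sx]) y
    simpa only [mul_assoc] using this
  have wq (y : G) : w * (q * y) = q * (w * y) := by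
    have := k (a := w * q) (b := q * w) (fun y => by rw [mul_assoc, mul_assoc, ← xp, ← xu, up, xp, xu]) y
    rwa [mul_assoc, mul_assoc] at this
  have wv (y : G) : w * (v * y) = t * (v * (q * (w * y))) := by
    have := k (a := w * v) (b := t * v * q * w) (fun y => by
      simp only [mul_assoc]; rw [← xv, ← xu, uv, xt, xv, xp, xu]) y
    simpa only [mul_assoc] using this
  have wp (y : G) : w * (p * y) = t * (p * (w * y)) := by
    have := k (a := w * (p * q)) (b := t * p * q * w) (fun y => by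
      simp only [mul_assoc]; rw [← xq, ← xu, uq, xt, xq, xu]) (q * y)
    simpa only [mul_assoc, qq, wq] using this
  exact ⟨tt, vv, pp, qq, uu, ww, ss, xx, vt, pt, qt, pv, qv, qp, wu, su, sw, xu, xw, xs, ut, uv, up, uq, wt, wv,
    wp, wq, st, sv, sp, sq, xt, xv, xp, xq⟩

namespace Col
open Mo
variable (h : Col t v p q u w x s)
include h

theorem rho_gen : ∀ c ∈ ([1, 2, 4, 8] : List (Fin 16)), ∀ b y,
    rho t v p q (xr c b) y = rho t v p q c (rho t v p q b y) := by
  intro c hc b y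
  simp only [List.mem_cons, List.not_mem_nil, or_false] at hc
  rcases hc with rfl | rfl | rfl | rfl <;> fin_cases b <;>
    simp +decide only [rho, bt, ↓reduceIte, h.tt, h.vv, h.pp, h.qq, h.vt, h.pt, h.qt, h.pv, h.qv, h.qp]

theorem kap_gen : ∀ c ∈ ([1, 2, 4, 8] : List (Fin 24)), ∀ b y,
    kap u w s x (tab c b) y = kap u w s x c (kap u w s x b y) := by
  intro c hc b y
  simp only [List.mem_cons, List.not_mem_nil, or_false] at hc
  rcases hc with rfl | rfl | rfl | rfl <;> fin_cases b <;>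
    simp +decide only [kap, bt, ↓reduceIte, h.uu, h.ww, h.ss, h.xx, h.wu, h.su, h.sw, h.xu, h.xw, h.xs]

theorem act_gen : ∀ c ∈ ([1, 2, 4, 8] : List (Fin 24)), ∀ b y,
    kap u w s x c (rho t v p q b y) = rho t v p q (act c b) (kap u w s x c y) := by
  intro c hc b y
  simp only [List.mem_cons, List.not_mem_nil, or_false] at hc
  rcases hc with rfl | rfl | rfl | rfl <;> fin_cases b <;>
    simp +decide only [rho, kap, bt, ↓reduceIte, h.tt, h.pp, h.qq, h.vt, h.pt, h.qt, h.qp, h.ut,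
      h.uv, h.up, h.uq, h.wt, h.wv, h.wp, h.wq, h.st, h.sv, h.sp, h.sq, h.xt, h.xv, h.xp, h.xq]

theorem rho_xr (a : Fin 16) : ∀ b y, rho t v p q (xr a b) y = rho t v p q a (rho t v p q b y) := by
  refine ind_nf xr [1, 2, 4, 8] (P := fun a => ∀ b y, rho t v p q (xr a b) y = rho t v p q a (rho t v p q b y))
    (fun b y => ?_) (fun c hc a ih b y => ?_) (by decide +kernel) a
  · rw [(by decide +kernel : ∀ b, xr 0 b = b)]; rfl
  · rw [xr_assoc, h.rho_gen c hc, ih, h.rho_gen c hc]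

theorem kap_tab (a : Fin 24) : ∀ b y, kap u w s x (tab a b) y = kap u w s x a (kap u w s x b y) := by
  refine ind_nf tab [1, 2, 4, 8] (P := fun a => ∀ b y, kap u w s x (tab a b) y = kap u w s x a (kap u w s x b y))
    (fun b y => ?_) (fun c hc a ih b y => ?_) (by decide +kernel) a
  · rw [(by decide +kernel : ∀ b, tab 0 b = b)]; rfl
  · rw [tab_assoc, h.kap_gen c hc, ih, h.kap_gen c hc]

theorem kap_rho (a : Fin 24) : ∀ b y, kap u w s x a (rho t v p q b y) = rho t v p q (act a b) (kap u w s x a y) := by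
  refine ind_nf tab [1, 2, 4, 8]
    (P := fun a => ∀ b y, kap u w s x a (rho t v p q b y) = rho t v p q (act a b) (kap u w s x a y))
    (fun b y => ?_) (fun c hc a ih b y => ?_) (by decide +kernel) a
  · rw [(by decide +kernel : ∀ b, act 0 b = b)]; rfl
  · rw [act_tab, h.kap_gen c hc, ih, h.act_gen c hc, h.kap_gen c hc]

/-- the homomorphism from the model -/
def hom : Mo →* G := MonoidHom.mk' (fun a => rho t v p q a.r (kap u w s x a.k 1)) fun a b => by
  rw [rho_mul, kap_mul, one_mul, h.kap_rho, ← h.rho_xr, ← h.kap_tab]; rfl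

end Col

namespace Mo
def t0 : Mo := ⟨1, 0⟩
def v0 : Mo := ⟨2, 0⟩
def p0 : Mo := ⟨4, 0⟩
def q0 : Mo := ⟨8, 0⟩
def u0 : Mo := ⟨0, 1⟩
def w0 : Mo := ⟨0, 2⟩
def s0 : Mo := ⟨0, 4⟩
def x0 : Mo := ⟨0, 8⟩

/-- `⟨t, v, p, q⟩` -/
def R : Subgroup Mo where
  carrier := {a | a.k = 0}
  mul_mem' := fun {a b} ha hb => (by decide +kernel : ∀ a : Mo, a.k = 0 → ∀ b : Mo, b.k = 0 → (a * b).k = 0) a ha b hb
  one_mem' := rfl
  inv_mem' := fun {a} => (by decide +kernel : ∀ a : Mo, a.k = 0 → a⁻¹.k = 0) a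

/-- the Sylow `2`-subgroup `⟨R, u, w, s⟩` -/
def S : Subgroup Mo where
  carrier := {a | a.k < 8}
  mul_mem' := fun {a b} => (by decide +kernel : ∀ k l : Fin 24, k < 8 → l < 8 → tab k l < 8) a.k b.k
  one_mem' := (by decide : (0 : Fin 24) < 8)
  inv_mem' := fun {a} => (by decide +kernel : ∀ k : Fin 24, k < 8 → ivk k < 8) a.k

/-- test for `⟨t, p, s, u⟩` -/
def e2 (a : Mo) : Bool := Nat.beq (Nat.lor (Nat.land a.r.1 10) (Nat.land a.k.1 26)) 0

/-- test for `⟨t, p, q, u, w, v s⟩` -/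
def m0 (a : Mo) : Bool := Nat.beq (Nat.mul 2 (Nat.land a.r.1 2)) (Nat.land a.k.1 28)

def E : Subgroup Mo where
  carrier := {a | e2 a = true}
  mul_mem' := fun {a b} ha hb => (by decide +kernel : ∀ a : Mo, e2 a = true → ∀ b : Mo, e2 b = true →
    e2 (a * b) = true) a ha b hb
  one_mem' := rfl
  inv_mem' := fun {a} => (by decide +kernel : ∀ a : Mo, e2 a = true → e2 a⁻¹ = true) a

def M : Subgroup Mo where
  carrier := {a | m0 a = true}
  mul_mem' := fun {a b} ha hb => (by decide +kernel : ∀ a : Mo, m0 a = true → ∀ b : Mo, m0 b = true →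
    m0 (a * b) = true) a ha b hb
  one_mem' := rfl
  inv_mem' := fun {a} => (by decide +kernel : ∀ a : Mo, m0 a = true → m0 a⁻¹ = true) a

instance decR : DecidablePred (· ∈ R) := fun a => inferInstanceAs (Decidable (a.k = 0))
instance decS : DecidablePred (· ∈ S) := fun a => inferInstanceAs (Decidable (a.k < 8))
instance decE : DecidablePred (· ∈ E) := fun a => inferInstanceAs (Decidable (e2 a = true))
instance decM : DecidablePred (· ∈ M) := fun a => inferInstanceAs (Decidable (m0 a = true))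

theorem card_sub (K : Subgroup Mo) [DecidablePred (· ∈ K)] :
    Nat.card K = (Finset.univ.filter (· ∈ K)).card := by
  rw [Nat.card_eq_fintype_card, Fintype.card_subtype]

theorem card_R : Nat.card R = 16 := (card_sub R).trans (by decide +kernel)
theorem card_S : Nat.card S = 128 := (card_sub S).trans (by decide +kernel)
theorem card_E : Nat.card E = 16 := (card_sub E).trans (by decide +kernel)
theorem card_M : Nat.card M = 64 := (card_sub M).trans (by decide +kernel)
theorem R_le : R ≤ S := (by decide +kernel : ∀ a ∈ R, a ∈ S)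
theorem E_le : E ≤ S := (by decide +kernel : ∀ a ∈ E, a ∈ S)
theorem M_le : M ≤ S := (by decide +kernel : ∀ a ∈ M, a ∈ S)
theorem R_sq : ∀ a ∈ R, a * a = 1 := by decide +kernel
theorem E_sq : ∀ a ∈ E, a * a = 1 := by decide +kernel
theorem R_cj : ∀ b ∈ R, ∀ a, a * b * a⁻¹ ∈ R := by decide +kernel
theorem E_cj : ∀ b ∈ E, ∀ a ∈ S, a * b * a⁻¹ ∈ E := by decide +kernel
theorem S_cj : ∀ a, a * s0 * a⁻¹ ∈ S → a ∈ S := by decide +kernel
theorem M_cj : ∀ a ∈ M, a * a = 1 → ∃ c, c * a * c⁻¹ ∈ E := by decide +kernel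
theorem v_cj : ∀ c, c * v0 * c⁻¹ ∉ E := by decide +kernel
theorem RE : ∀ a ∈ R, a ∉ E → ∀ b ∈ E, b ∉ R → a * b ≠ b * a := by decide +kernel
theorem small : ∀ a ∈ S, a * a = 1 → a ∉ R → a ∉ E →
    (Finset.univ.filter fun b => b ∈ S ∧ b * b = 1 ∧ a * b = b * a).card < 16 := by decide +kernel

/-- the elementary abelian subgroups of order `16` of `S` -/
theorem e16 {K : Subgroup Mo} (hS : K ≤ S) (h2 : ∀ a ∈ K, a * a = 1) (hc : Nat.card K = 16) : K = R ∨ K = E := by
  classical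
  have cm {a b} (ha : a ∈ K) (hb : b ∈ K) : a * b = b * a := by
    rw [← inv_inj, mul_inv_rev, inv_eq_of_mul_eq_one_left (h2 a ha), inv_eq_of_mul_eq_one_left (h2 b hb),
      inv_eq_of_mul_eq_one_left (h2 _ (K.mul_mem hb ha))]
  have h1 {a} (ha : a ∈ K) : a ∈ R ∨ a ∈ E := by
    by_contra hn
    rw [not_or] at hn
    refine (small a (hS ha) (h2 a ha) hn.1 hn.2).not_ge (hc.symm.le.trans ((card_sub K).le.trans ?_))
    exact Finset.card_le_card fun b hb => by
      simp only [Finset.mem_filter, Finset.mem_univ, true_and] at hb ⊢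
      exact ⟨hS hb, h2 b hb, cm ha hb⟩
  by_cases hR : K ≤ R
  · exact .inl (eq_of_le_of_card_ge hR (by rw [hc, card_R]))
  · obtain ⟨b, hb, hb'⟩ := SetLike.not_le_iff_exists.1 hR
    refine .inr (eq_of_le_of_card_ge (fun a ha => by_contra fun ha' => ?_) (by rw [hc, card_E]))
    exact RE a ((h1 ha).resolve_right ha') ha' b ((h1 hb).resolve_left hb') hb' (cm ha hb)

/-- equal modulo `t` -/
def Tq (a b : Mo) : Prop := a = b ∨ a = b * t0

instance decTq (a b : Mo) : Decidable (Tq a b) := inferInstanceAs (Decidable (a = b ∨ a = b * t0))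

/-- `x` moves `a₁` to `a₂` and permutes `b₁, b₂, b₃` backwards, modulo `t` -/
def Sw (a₁ a₂ b₁ b₂ b₃ : Mo) : Prop := a₁ * a₁ = t0 ∧ Tq (x0 * a₁ * x0⁻¹) a₂ ∧ Tq (x0 * b₂ * x0⁻¹) b₁ ∧
  Tq (x0 * b₃ * x0⁻¹) b₂ ∧ Tq (x0 * b₁ * x0⁻¹) b₃ ∧ ¬ Tq b₃ b₁

instance decSw (a₁ a₂ b₁ b₂ b₃ : Mo) : Decidable (Sw a₁ a₂ b₁ b₂ b₃) := by unfold Sw; infer_instance

theorem swap : ∀ P ∈ R, P ∈ E → P ≠ 1 → P ≠ t0 → ∀ Q ∈ E, Q ∉ R → ∀ U ∈ R, U ∉ E → U * Q * U = Q * t0 →
    ∀ W ∈ S, W * W = 1 → W ∉ R → W ∉ E → W * P * W = P * t0 → W * Q = Q * W → U * W = W * U →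
      Sw (P * W) (Q * (U * W)) (P * (U * W)) (Q * U) (P * Q * W) ∨
      Sw (P * (U * W)) (Q * U) (P * W) (Q * (U * W)) (P * Q * U) := by decide +kernel

theorem ind {K : Subgroup Mo} (h : ∀ c ∈ [t0, v0, p0, q0], c ∈ K) : R ≤ K := by
  rintro ⟨r, _⟩ rfl
  refine ind_nf xr [1, 2, 4, 8] (P := fun r => (⟨r, 0⟩ : Mo) ∈ K) K.one_mem (fun c hc a ih => ?_) (by decide +kernel) r
  rw [(by decide +kernel : ∀ c a, (⟨xr c a, 0⟩ : Mo) = ⟨c, 0⟩ * ⟨a, 0⟩)]
  exact K.mul_mem (h _ ((by decide +kernel : ∀ c ∈ ([1, 2, 4, 8] : List (Fin 16)),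
    (⟨c, 0⟩ : Mo) ∈ [t0, v0, p0, q0]) c hc)) ih

theorem ind' {K : Subgroup Mo} (h : ∀ c ∈ [t0, v0, p0, q0], c ∈ K) (h' : ∀ c ∈ [u0, w0, s0, x0], c ∈ K) :
    K = ⊤ := by
  refine eq_top_iff.2 fun ⟨r, k⟩ _ => ?_
  rw [(by decide +kernel : ∀ r k, (⟨r, k⟩ : Mo) = ⟨r, 0⟩ * ⟨0, k⟩)]
  refine K.mul_mem (ind h rfl) ?_
  refine ind_nf tab [1, 2, 4, 8] (P := fun k => (⟨0, k⟩ : Mo) ∈ K) K.one_mem (fun c hc a ih => ?_) (by decide +kernel) k
  rw [(by decide +kernel : ∀ c a, (⟨0, tab c a⟩ : Mo) = ⟨0, c⟩ * ⟨0, a⟩)]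
  exact K.mul_mem (h' _ ((by decide +kernel : ∀ c ∈ ([1, 2, 4, 8] : List (Fin 24)),
    (⟨0, c⟩ : Mo) ∈ [u0, w0, s0, x0]) c hc)) ih

end Mo

open Mo in
/-- the model maps onto the group generated by a solution of `PC` -/
theorem PC.exists_hom (h : PC t v p q u w x s) : ∃ φ : Mo →* G, φ t0 = t ∧ φ v0 = v ∧ φ p0 = p ∧ φ q0 = q ∧
    φ u0 = u ∧ φ w0 = w ∧ φ x0 = x ∧ φ s0 = s :=
  ⟨h.col.hom, mul_one t, mul_one v, mul_one p, mul_one q, mul_one u, mul_one w, mul_one x, mul_one s⟩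

open Mo in
theorem range_eq (φ : Mo →* G) :
    φ.range = closure {φ t0, φ v0, φ p0, φ q0, φ u0, φ w0, φ x0, φ s0} := by
  refine le_antisymm ?_ ((closure_le _).2 ?_)
  · rw [MonoidHom.range_eq_map, map_le_iff_le_comap, top_le_iff]
    refine ind' (fun c hc => ?_) fun c hc => ?_ <;>
      simp only [List.mem_cons, List.not_mem_nil, or_false] at hc <;>
      rcases hc with rfl | rfl | rfl | rfl <;> exact subset_closure (by simp)
  · rintro _ (rfl | rfl | rfl | rfl | rfl | rfl | rfl | rfl) <;> exact ⟨_, rfl⟩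

open Mo in
theorem map_R (φ : Mo →* G) : R.map φ = closure {φ t0, φ v0, φ p0, φ q0} := by
  refine le_antisymm ?_ ((closure_le _).2 ?_)
  · rw [map_le_iff_le_comap]
    refine ind fun c hc => ?_
    simp only [List.mem_cons, List.not_mem_nil, or_false] at hc
    rcases hc with rfl | rfl | rfl | rfl <;> exact subset_closure (by simp)
  · rintro _ (rfl | rfl | rfl | rfl) <;> exact ⟨_, rfl, rfl⟩

theorem inj_of_card (φ : Mo →* G) (hc : Nat.card φ.range = 384) : Function.Injective φ := fun a b e =>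
  (φ.rangeRestrict_surjective.bijective_of_nat_card_le (by rw [hc, Mo.card])).1 (Subtype.ext e)

theorem eqns_end1 : True := by
  have := @Mo.xr.eq_1
  have := @Mo.tab.eq_1
  have := @Mo.act.eq_1
  have := @Mo.ivk.eq_1
  have := @Mo.eqv.eq_1
  have := @bt.eq_1.{0}
  have := @rho.eq_1.{0}
  have := @kap.eq_1.{0}
  have := @Col.hom.eq_1.{0}
  have := @Mo.t0.eq_1
  have := @Mo.v0.eq_1
  have := @Mo.p0.eq_1
  have := @Mo.q0.eq_1
  have := @Mo.u0.eq_1
  have := @Mo.w0.eq_1
  have := @Mo.s0.eq_1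
  have := @Mo.x0.eq_1
  have := @Mo.R.eq_1
  have := @Mo.S.eq_1
  have := @Mo.e2.eq_1
  have := @Mo.m0.eq_1
  have := @Mo.E.eq_1
  have := @Mo.M.eq_1
  have := @Mo.Tq.eq_1
  have := @Mo.Sw.eq_1
  trivial

end H66.T3
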